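import Groth.Agent.NormBlowLib.Basic
import Groth.Agent.BlowExistsLib.Proper
import Groth.Agent.RGBlowLib.Union.Basic
import Groth.Agent.IdealStalkLib.Comap

/-!
# A birational local algebra as a local ring of a blow-up
-/

set_option autoImplicit false
set_option backward.isDefEq.respectTransparency false
set_option linter.style.haveILetI false
set_option maxHeartbeats 1000000

universe u

open CategoryTheory AlgebraicGeometry TopologicalSpace

noncomputable section

namespace Groth.Agent.BirLocLib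

/-- A ring map which is bijective up to units from a local target is a localization at a prime. -/
theorem isLocalization_of_fractions {C B : Type u} [CommRing C] [CommRing B] [IsLocalRing B] [Algebra C B]
    (hinj : Function.Injective (algebraMap C B))
    (h : ∀ b : B, ∃ c d : C, IsUnit (algebraMap C B d) ∧ b * algebraMap C B d = algebraMap C B c) :
    IsLocalization.AtPrime B ((IsLocalRing.maximalIdeal B).comap (algebraMap C B)) :=
  (isLocalization_iff _ _).2 ⟨fun y => IsLocalRing.notMem_maximalIdeal.1 y.2, fun b => by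
    obtain ⟨c, d, hd, hbd⟩ := h b
    exact ⟨⟨c, ⟨d, fun hm => (IsLocalRing.mem_maximalIdeal _).1 hm hd⟩⟩, hbd⟩, fun {x y} e => ⟨1, by rw [hinj e]⟩⟩

variable (A B : Type u) [CommRing A] [CommRing B] [IsDomain A] [IsDomain B] [IsLocalRing A] [IsLocalRing B]
  [IsNoetherianRing A] [Algebra A B]

/-- A birational local algebra essentially of finite type is a local ring on a proper model. -/
theorem exists_model (hinj : Function.Injective (algebraMap A B)) [Algebra.EssFiniteType A B]
    (hfrac : ∀ b : B, ∃ a a' : A, a' ≠ 0 ∧ algebraMap A B a' * b = algebraMap A B a) :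
    ∃ (X : Scheme.{u}) (b : X ⟶ Spec (CommRingCat.of A)) (U : X.affineOpens) (ψ : Spec (CommRingCat.of B) ⟶ X),
      IsProper b ∧ ψ ≫ b = Spec.map (CommRingCat.ofHom (algebraMap A B)) ∧ Flat ψ ∧
      (∃ R : (Spec (CommRingCat.of A)).Opens, (R : Set (Spec (CommRingCat.of A))).Nonempty ∧ IsIso (b ∣_ R)) ∧
      ∃ e : ψ ⁻¹ᵁ U.1 = ⊤, ∀ b' : B, ∃ c d : Γ(X, U.1),
        IsUnit ((ψ.appLE U.1 ⊤ e.ge).hom d) ∧
          (Scheme.ΓSpecIso (CommRingCat.of B)).inv.hom b' * (ψ.appLE U.1 ⊤ e.ge).hom d =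
            (ψ.appLE U.1 ⊤ e.ge).hom c := by
  haveI : IsDomain (CommRingCat.of A) := inferInstanceAs (IsDomain A)
  haveI : IsNoetherianRing (CommRingCat.of A) := inferInstanceAs (IsNoetherianRing A)
  classical
  obtain ⟨s, hs⟩ := (Algebra.essFiniteType_iff A B).1 inferInstance
  choose num den hden hnd using hfrac
  let a' : A := ∏ x ∈ s, den x
  have ha' : a' ≠ 0 := Finset.prod_ne_zero_iff.2 fun x _ => hden x
  let nu : B → A := fun x => num x * ∏ y ∈ s.erase x, den y
  have hnu : ∀ x ∈ s, algebraMap A B a' * x = algebraMap A B (nu x) := fun x hx => by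
    have h1 : a' = den x * ∏ y ∈ s.erase x, den y := (Finset.mul_prod_erase s den hx).symm
    rw [h1, map_mul, map_mul, mul_right_comm, hnd]
  let J : Ideal A := Ideal.span (insert a' (nu '' (s : Set B)))
  let si : A →+* Γ(Spec (CommRingCat.of A), ⊤) := (Scheme.ΓSpecIso (CommRingCat.of A)).inv.hom
  let e₀ : A ≃+* Γ(Spec (CommRingCat.of A), ⊤) :=
    (Scheme.ΓSpecIso (CommRingCat.of A)).symm.commRingCatIsoToRingEquiv
  let 𝓘 : (Spec (CommRingCat.of A)).IdealSheafData := Scheme.IdealSheafData.ofIdealTop (J.map si)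
  have hft : BlowUp.IsFiniteTypeIdeal 𝓘 := fun V => by
    haveI : IsNoetherianRing Γ(Spec (CommRingCat.of A), V.1) := IsLocallyNoetherian.component_noetherian V
    exact IsNoetherian.noetherian _
  obtain ⟨X, b, hb⟩ := BlowExistsLib.exists_isBlowUp (𝓘 := 𝓘)
  haveI : IsProper b := BlowExistsLib.isProper_of_FG hb hft
  let T : (Spec (CommRingCat.of A)).affineOpens := ⟨⊤, isAffineOpen_top _⟩
  have hid : 𝓘.ideal T = J.map si := by
    show (Scheme.IdealSheafData.ofIdealTop _).ideal _ = _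
    rw [Scheme.IdealSheafData.ofIdealTop_ideal]
    simp only [T, homOfLE_refl, op_id, CategoryTheory.Functor.map_id, CommRingCat.hom_id, Ideal.map_id]
  have haI : si a' ∈ 𝓘.ideal T := hid ▸ Ideal.mem_map_of_mem si (Ideal.subset_span (Set.mem_insert _ _))
  let ρ : Γ(Spec (CommRingCat.of A), T.1) →+* B := (algebraMap A B).comp e₀.symm.toRingHom
  have hρ : ∀ a, ρ (si a) = algebraMap A B a := fun a => congrArg (algebraMap A B) (e₀.symm_apply_apply a)
  have hρinj : Function.Injective ρ := hinj.comp e₀.symm.injective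
  have hρa : ρ (si a') ≠ 0 := by rw [hρ]; exact (map_ne_zero_iff _ hinj).2 ha'
  obtain ⟨φ, hφ⟩ := BlowChartLib.exists_hom (I := 𝓘.ideal T) (a := si a') ρ (mem_nonZeroDivisors_of_ne_zero hρa) (by
    rw [hid, Ideal.map_map, Ideal.map_le_iff_le_comap]
    refine Ideal.span_le.2 fun y hy => ?_
    show ρ (si y) ∈ Ideal.span {ρ (si a')}
    rw [hρ, hρ, Ideal.mem_span_singleton]
    rcases hy with rfl | ⟨x, hx, rfl⟩
    · exact dvd_rfl
    · exact ⟨x, (hnu x hx).symm⟩)
  let Ch := BlowChartLib.ChartAlg 𝓘 T (si a')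
  letI : Algebra Ch B := φ.toAlgebra
  have hφinj : Function.Injective φ := (injective_iff_map_eq_zero φ).2 fun z hz => by
    obtain ⟨k, hk⟩ := NormBlowLib.exists_num haI z
    obtain ⟨ε, -, hε⟩ := hk k le_rfl
    have h1 : z * algebraMap _ Ch (si a' ^ k) = algebraMap _ Ch ε := Subtype.ext hε
    have h2 : ρ ε = 0 := by
      have h3 := congrArg φ h1
      rw [map_mul, hz, zero_mul] at h3
      exact ((congrArg (fun q : _ →+* B => q ε) hφ).symm.trans h3.symm)
    rw [(map_eq_zero_iff _ hρinj).1 h2, map_zero] at hε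
    exact Subtype.ext (((IsLocalization.Away.algebraMap_isUnit (si a')).pow k).mul_left_eq_zero.1
      (by rw [← map_pow]; exact hε))
  have hrange : ∀ t ∈ Algebra.adjoin A (s : Set B), t ∈ φ.range := fun t ht => by
    induction ht using Algebra.adjoin_induction with
    | mem x hx =>
      have hxI : si (nu x) ∈ 𝓘.ideal T := hid ▸ Ideal.mem_map_of_mem si (Ideal.subset_span (Or.inr ⟨x, hx, rfl⟩))
      refine ⟨BlowChartLib.frac (si (nu x)) hxI, mul_right_cancel₀ hρa ?_⟩
      have h1 := congrArg φ (BlowChartLib.frac_mul (a := si a') (si (nu x)) hxI)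
      rw [map_mul] at h1
      have h2 : ∀ r, φ (algebraMap _ Ch r) = ρ r := fun r => congrArg (fun q : _ →+* B => q r) hφ
      erw [h2, h2] at h1
      refine h1.trans ?_
      rw [hρ, hρ, ← hnu x hx, mul_comm]
    | algebraMap r => exact ⟨algebraMap _ Ch (si r), (congrArg (fun q : _ →+* B => q (si r)) hφ).trans (hρ r)⟩
    | add x y _ _ hx hy => exact add_mem hx hy
    | mul x y _ _ hx hy => exact mul_mem hx hy
  have hfr : ∀ b' : B, ∃ c d : Ch, IsUnit (φ d) ∧ b' * φ d = φ c := fun b' => by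
    obtain ⟨t, ht, htu, hbt⟩ := hs b'
    obtain ⟨d, hd⟩ := hrange t ht
    obtain ⟨c, hc⟩ := hrange _ hbt
    exact ⟨c, d, hd ▸ htu, by rw [hd, hc]⟩
  haveI := isLocalization_of_fractions (C := Ch) hφinj hfr
  haveI : Module.Flat Ch B := IsLocalization.flat B ((IsLocalRing.maximalIdeal B).comap (algebraMap Ch B)).primeCompl
  haveI : Flat (Spec.map (CommRingCat.ofHom φ)) :=
    (HasRingHomProperty.Spec_iff (P := @Flat)).2 (RingHom.flat_algebraMap_iff.2 inferInstance)
  let em := BlowExistsLib.emb hb haI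
  let U : X.affineOpens := ⟨em.opensRange, isAffineOpen_opensRange em⟩
  let ψ : Spec (CommRingCat.of B) ⟶ X := Spec.map (CommRingCat.ofHom φ) ≫ em
  have e : ψ ⁻¹ᵁ U.1 = ⊤ := by
    show Spec.map _ ⁻¹ᵁ (em ⁻¹ᵁ em.opensRange) = ⊤
    rw [Scheme.Hom.preimage_opensRange, Scheme.Hom.preimage_top]
  refine ⟨X, b, U, ψ, inferInstance, ?_, ?_, ⟨(Spec (CommRingCat.of A)).basicOpen (si a'), ?_, ?_⟩, e, fun b' => ?_⟩
  · simp only [ψ, Category.assoc, em]
    rw [BlowExistsLib.emb_comp, BlowChartLib.chartMap, ← Category.assoc, ← Spec.map_comp, IsAffineOpen.fromSpec_top,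
      Scheme.isoSpec_Spec_inv, ← Spec.map_comp]
    congr 1
    refine CommRingCat.hom_ext (RingHom.ext fun a => ?_)
    exact (congrArg (fun q : _ →+* B => q (si a)) hφ).trans (hρ a)
  · exact inferInstanceAs (Flat (Spec.map (CommRingCat.ofHom φ) ≫ em))
  · refine Set.nonempty_iff_ne_empty.2 fun h => ?_
    have h0 : si a' = 0 := (basicOpen_eq_bot_iff _).1 (Opens.ext h)
    exact ha' ((map_eq_zero_iff si e₀.injective).1 h0)
  · refine RGBlowLib.Union.isIso_restrict_adm hb _ ⟨hft, Set.disjoint_left.2 fun z hz hzR => ?_⟩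
    rw [Scheme.IdealSheafData.coe_support_ofIdealTop] at hz
    exact (Scheme.mem_zeroLocus_iff _ _ z).1 hz _
      (Ideal.mem_map_of_mem si (Ideal.subset_span (Set.mem_insert _ _))) hzR
  · obtain ⟨c, d, hd, hbd⟩ := hfr b'
    let sec : Ch →+* Γ(X, U.1) :=
      ((Scheme.ΓSpecIso (CommRingCat.of Ch)).inv ≫ (em.appIso ⊤).inv ≫
        X.presheaf.map (eqToHom (show em.opensRange = em ''ᵁ ⊤ from em.image_top_eq_opensRange.symm)).op).hom
    have key : ∀ z : Ch, (ψ.appLE U.1 ⊤ e.ge).hom (sec z) = (Scheme.ΓSpecIso (CommRingCat.of B)).inv.hom (φ z) := by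
      intro z
      have h1 : (Scheme.ΓSpecIso (CommRingCat.of Ch)).inv ≫ (em.appIso ⊤).inv ≫
          X.presheaf.map (eqToHom (show em.opensRange = em ''ᵁ ⊤ from em.image_top_eq_opensRange.symm)).op ≫
          ψ.appLE U.1 ⊤ e.ge = CommRingCat.ofHom φ ≫ (Scheme.ΓSpecIso (CommRingCat.of B)).inv := by
        rw [Scheme.Hom.map_appLE]
        simp only [ψ]
        rw [← Scheme.Hom.appLE_comp_appLE (Spec.map (CommRingCat.ofHom φ)) em _ ⊤ ⊤
            (em.preimage_image_eq ⊤).ge le_top,
          Scheme.Hom.appIso_inv_appLE_assoc, Scheme.ΓSpecIso_inv_naturality]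
        congr 1
      exact congrArg (fun q => q.hom z) h1
    refine ⟨sec c, sec d, ?_, ?_⟩
    · rw [key]; exact hd.map _
    · rw [key, key, ← map_mul, hbd]

end Groth.Agent.BirLocLib
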