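import Groth.Agent.ModifDimLib.Main
import Groth.Agent.FibreVanishQC.GlobGen
import Groth.Agent.AmpleVanLib.Descend
import Groth.Agent.BlowChartLib.AffineCrit
import Groth.Agent.QCohLib.Push

/-!
# Vanishing on schemes affine over a modification
-/

set_option autoImplicit false
set_option backward.isDefEq.respectTransparency false
set_option linter.style.haveILetI false
set_option linter.unusedSectionVars false
set_option maxHeartbeats 1000000

universe u

open CategoryTheory CategoryTheory.Limits AlgebraicGeometry TopologicalSpace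
open scoped TensorProduct

noncomputable section

namespace Groth.Agent.BirLocLib

variable {A B : Type u} [CommRing A] [CommRing B] [Algebra A B]

/-- Sections over the preimage of an affine open of a closed subscheme of the base change to `B`. -/
theorem exists_tensor_surjective {X Z : Scheme.{u}} (f : X ⟶ Spec (CommRingCat.of A)) (g : Z ⟶ X) [IsAffineHom g]
    (c : Z ⟶ Spec (CommRingCat.of B)) (w : g ≫ f = c ≫ Spec.map (CommRingCat.ofHom (algebraMap A B)))
    [IsClosedImmersion (pullback.lift g c w)] (V : X.Opens) (hV : IsAffineOpen V) (z : Γ(Z, g ⁻¹ᵁ V)) :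
    ∃ (t : B →₀ Γ(X, V)), t.sum (fun b v => (g.app V).hom v * BlowChartLib.secHom c (g ⁻¹ᵁ V) b) = z := by
  let W := g ⁻¹ᵁ V
  have hW : IsAffineOpen W := hV.preimage g
  letI : Algebra A Γ(X, V) := (BlowChartLib.secHom f V).toAlgebra
  let gV : Γ(X, V) →+* Γ(Z, W) := (g.app V).hom
  let cB : B →+* Γ(Z, W) := BlowChartLib.secHom c W
  letI : Algebra A Γ(Z, W) := (gV.comp (algebraMap A Γ(X, V))).toAlgebra
  have hgW : Spec.map (g.app V) ≫ hV.fromSpec = hW.fromSpec ≫ g := by
    rw [Scheme.Hom.app_eq_appLE]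
    exact IsAffineOpen.SpecMap_appLE_fromSpec g hV hW le_rfl
  have hcW : Spec.map (CommRingCat.ofHom cB) = hW.fromSpec ≫ c := BlowChartLib.fromSpec_secHom c ⟨W, hW⟩
  have hfV : Spec.map (CommRingCat.ofHom (algebraMap A Γ(X, V))) = hV.fromSpec ≫ f :=
    BlowChartLib.fromSpec_secHom f ⟨V, hV⟩
  have hcomm : ∀ a, cB (algebraMap A B a) = gV (algebraMap A Γ(X, V) a) := fun a => by
    have h1 : CommRingCat.ofHom (algebraMap A B) ≫ CommRingCat.ofHom cB =
        CommRingCat.ofHom (algebraMap A Γ(X, V)) ≫ g.app V := Spec.map_injective (by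
      rw [Spec.map_comp, Spec.map_comp, hcW, hfV, ← Category.assoc (Spec.map (g.app V)), hgW, Category.assoc,
        Category.assoc, w])
    exact congrArg (fun q => q.hom a) h1
  let θ : Γ(X, V) ⊗[A] B →ₐ[A] Γ(Z, W) :=
    Algebra.TensorProduct.lift { gV with commutes' := fun a => rfl } { cB with commutes' := hcomm }
      fun a b => Commute.all _ _
  let k : Spec Γ(Z, W) ⟶ pullback (Spec.map (CommRingCat.ofHom (algebraMap A Γ(X, V))))
      (Spec.map (CommRingCat.ofHom (algebraMap A B))) :=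
    Spec.map (CommRingCat.ofHom θ.toRingHom) ≫ (pullbackSpecIso A Γ(X, V) B).inv
  let i := pullback.lift g c w
  let j : pullback (Spec.map (CommRingCat.ofHom (algebraMap A Γ(X, V))))
      (Spec.map (CommRingCat.ofHom (algebraMap A B))) ⟶ pullback f (Spec.map (CommRingCat.ofHom (algebraMap A B))) :=
    pullback.map _ _ _ _ hV.fromSpec (𝟙 _) (𝟙 _) (by rw [Category.comp_id, hfV]) (by rw [Category.comp_id, Category.id_comp])
  haveI : IsOpenImmersion j := inferInstance
  have hk1 : k ≫ pullback.fst _ _ = Spec.map (g.app V) := by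
    simp only [k, Category.assoc, pullbackSpecIso_inv_fst, ← Spec.map_comp]
    congr 1
    refine CommRingCat.hom_ext (RingHom.ext fun v => ?_)
    show θ (v ⊗ₜ[A] (1 : B)) = gV v
    rw [Algebra.TensorProduct.lift_tmul, map_one, mul_one]
    rfl
  have hk2 : k ≫ pullback.snd _ _ = Spec.map (CommRingCat.ofHom cB) := by
    simp only [k, Category.assoc, pullbackSpecIso_inv_snd, ← Spec.map_comp]
    congr 1
    refine CommRingCat.hom_ext (RingHom.ext fun b => ?_)
    show θ ((1 : Γ(X, V)) ⊗ₜ[A] b) = cB b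
    rw [Algebra.TensorProduct.lift_tmul, map_one, one_mul]
    rfl
  have hkj : k ≫ j = hW.fromSpec ≫ i := by
    have hj1 : j ≫ pullback.fst _ _ = pullback.fst _ _ ≫ hV.fromSpec := pullback.lift_fst _ _ _
    have hj2 : j ≫ pullback.snd _ _ = pullback.snd _ _ ≫ 𝟙 _ := pullback.lift_snd _ _ _
    have hi1 : i ≫ pullback.fst _ _ = g := pullback.lift_fst _ _ _
    have hi2 : i ≫ pullback.snd _ _ = c := pullback.lift_snd _ _ _
    refine pullback.hom_ext ?_ ?_
    · rw [Category.assoc, hj1, Category.assoc hW.fromSpec, hi1, ← Category.assoc, hk1, hgW]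
    · rw [Category.assoc, hj2, Category.assoc hW.fromSpec, hi2, Category.comp_id, hk2, hcW]
  haveI : IsImmersion (k ≫ j) := by rw [hkj]; infer_instance
  haveI : IsImmersion k := IsImmersion.of_comp k j
  haveI : IsClosedImmersion k := by
    refine IsClosedImmersion.of_isPreimmersion k ?_
    have hr : Set.range k = j ⁻¹' Set.range i := by
      refine Set.Subset.antisymm ?_ ?_
      · rintro _ ⟨p, rfl⟩
        exact ⟨hW.fromSpec p, by rw [← Scheme.Hom.comp_apply, ← hkj]; rfl⟩
      · rintro q ⟨y, hy⟩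
        have h1 : g y ∈ V := by
          have h2 : g y = pullback.fst f _ (j q) := by
            rw [← hy, ← Scheme.Hom.comp_apply, pullback.lift_fst]
          rw [h2, ← Scheme.Hom.comp_apply, pullback.lift_fst]
          exact hV.range_fromSpec.le ⟨_, rfl⟩
        obtain ⟨p, hp⟩ : y ∈ Set.range hW.fromSpec := by rw [hW.range_fromSpec]; exact h1
        refine ⟨p, j.isOpenEmbedding.injective ?_⟩
        rw [← Scheme.Hom.comp_apply, hkj, Scheme.Hom.comp_apply, hp]
        exact hy
    rw [hr]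
    exact i.isClosedEmbedding.isClosed_range.preimage j.continuous
  haveI : IsClosedImmersion (Spec.map (CommRingCat.ofHom θ.toRingHom)) := by
    have h1 : Spec.map (CommRingCat.ofHom θ.toRingHom) = k ≫ (pullbackSpecIso A Γ(X, V) B).hom := by
      simp [k]
    rw [h1]
    infer_instance
  have hsurj : Function.Surjective θ := by
    obtain ⟨-, h1⟩ := IsClosedImmersion.isAffine_surjective_of_isAffine (Spec.map (CommRingCat.ofHom θ.toRingHom))
    intro x
    obtain ⟨t, ht⟩ := h1 ((Scheme.ΓSpecIso Γ(Z, W)).inv x)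
    refine ⟨(Scheme.ΓSpecIso (CommRingCat.of (Γ(X, V) ⊗[A] B))).hom t, ?_⟩
    have h2 := congrArg (fun q => q.hom t) (Scheme.ΓSpecIso_naturality (CommRingCat.ofHom θ.toRingHom))
    simp only [CommRingCat.hom_comp, RingHom.comp_apply, CommRingCat.hom_ofHom] at h2
    refine h2.symm.trans ?_
    erw [ht]
    exact ConcreteCategory.congr_hom (Scheme.ΓSpecIso Γ(Z, W)).inv_hom_id x
  obtain ⟨t, rfl⟩ := hsurj z
  induction t with
  | zero => exact ⟨0, by rw [Finsupp.sum_zero_index, map_zero]⟩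
  | tmul v b =>
    refine ⟨Finsupp.single b v, ?_⟩
    rw [Finsupp.sum_single_index (by rw [map_zero, zero_mul])]
    simp [θ]
    rfl
  | add x y hx hy =>
    obtain ⟨s, hs⟩ := hx
    obtain ⟨s', hs'⟩ := hy
    refine ⟨s + s', ?_⟩
    rw [map_add, ← hs, ← hs']
    exact Finsupp.sum_add_index' (fun b => by rw [map_zero, zero_mul]) fun b x y => by rw [map_add, add_mul]

/-- No first cohomology on schemes affine over a modification and closed in its base change. -/
theorem subsingleton_H1 {X Z : Scheme.{u}} (f : X ⟶ Spec (CommRingCat.of A)) [IsProper f]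
    (hd : ∀ y, topologicalKrullDim ↥(f.fiber y) ≤ ((0 : ℕ) + 1 : ℕ))
    (h0 : Subsingleton (Coh.HH X (Coh.structureModule X) 1)) (g : Z ⟶ X) [IsAffineHom g]
    (c : Z ⟶ Spec (CommRingCat.of B)) (w : g ≫ f = c ≫ Spec.map (CommRingCat.ofHom (algebraMap A B)))
    [IsClosedImmersion (pullback.lift g c w)] : Subsingleton (Coh.HH Z (Coh.structureModule Z) 1) := by
  haveI : Coh.IsQCoh (Coh.structureModule Z) := inferInstance
  rw [← AmpleVanLib.subsingleton_HH_push_iff g]
  let F := (Scheme.Modules.pushforward g).obj (Coh.structureModule Z)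
  haveI : Coh.IsQCoh F := QCohLib.isQCoh_pushforward (Coh.structureModule Z) g
  refine CohBase.subsingleton_HH F 1 (FibreVanishQC.subsingleton_HU_of_globgen f 0 hd h0 F
    (fun b : B => DCohLib.secHom F (show Γ(Z, g ⁻¹ᵁ ⊤) from BlowChartLib.secHom c (g ⁻¹ᵁ ⊤) b)) fun V hV z => ?_)
  obtain ⟨t, ht⟩ := exists_tensor_surjective f g c w V hV z
  refine ⟨t, Eq.trans ?_ ht⟩
  refine Finsupp.sum_congr fun b _ => ?_
  have h1 : ∀ (s : Γ(F, ⊤)) (r : Γ(X, V)), (DCohLib.secHom F s).app V r =
      r • F.presheaf.map (homOfLE (le_top : V ≤ ⊤)).op s := fun s r => by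
    rw [← DCohLib.secHom_app_one F s V, ← Scheme.Modules.Hom.app_smul]
    exact congrArg _ (mul_one r).symm
  rw [h1]
  show @HMul.hMul Γ(Z, g ⁻¹ᵁ V) Γ(Z, g ⁻¹ᵁ V) Γ(Z, g ⁻¹ᵁ V) _ ((g.app V).hom (t b))
    ((Z.presheaf.map (homOfLE (show g ⁻¹ᵁ V ≤ g ⁻¹ᵁ ⊤ from le_top)).op).hom (BlowChartLib.secHom c (g ⁻¹ᵁ ⊤) b)) = _
  congr 1
  show ((Scheme.ΓSpecIso (CommRingCat.of B)).inv ≫ c.appLE ⊤ (g ⁻¹ᵁ ⊤) le_top ≫ Z.presheaf.map (homOfLE (show g ⁻¹ᵁ V ≤ g ⁻¹ᵁ ⊤ from le_top)).op).hom b = _
  rw [Scheme.Hom.appLE_map]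
  rfl

end Groth.Agent.BirLocLib
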